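import Groth.Agent.AVDegPoly.Vol
import Groth.Agent.IntNum.PushRank
import Groth.Agent.AVDegLib.Pull
import Groth.Agent.KFlatLib.Scheme.ProjLocFree
import Groth.Agent.QCoh.RpushAbGod
import Groth.Agent.QCoh.RpushGod
import Groth.Agent.QCoh.Support
import Groth.Agent.AlgSpDec.EtCompact
import Groth.Agent.Lib.InvEnd
import Groth.Agent.HilbPoly.Pos

/-! Self-intersection numbers of pullbacks along finite surjections, and of ample classes. -/

noncomputable section

set_option linter.style.haveILetI false
set_option backward.isDefEq.respectTransparency false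
set_option backward.isDefEq.respectTransparency.types false

universe u

open CategoryTheory CategoryTheory.Limits AlgebraicGeometry TopologicalSpace

namespace Groth.Agent.AVDegPoly

open Groth.Agent Groth.Agent.IntNum Groth.Agent.Snapper Groth.Agent.H23
open scoped Groth.Agent.H23.PicMul

theorem dim_support_structure {X : Scheme.{u}} {g : ℕ} (hX : topologicalKrullDim X = (g : WithBot ℕ∞)) :
    topologicalKrullDim ↥(CohB1.support (Coh.structureModule X)) = (g : WithBot ℕ∞) := by
  rw [CohGabLib.support_structure]
  exact (IsHomeomorph.topologicalKrullDim_eq _ (Homeomorph.Set.univ X).isHomeomorph).trans hX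

theorem vol_pos_of_isAmple (k : Type u) [Field k] {X : Scheme.{u}} [X.Over (Spec (CommRingCat.of k))]
    [IsProper (X ↘ Spec (CommRingCat.of k))] {g : ℕ} (hX : topologicalKrullDim X = (g : WithBot ℕ∞))
    {L : X.Modules} (hL : CohB1.IsAmple L) : 0 < vol k g L := by
  haveI := CurveCohLib.isNoetherian_of_proper (k := k) (X := X)
  rw [vol, alt_eq_mult]
  exact_mod_cast (HilbPoly.mult_nonneg_and_pos k hL g _ (AmpleVan.isCoh_invertible InvX.isInvertible_structureModule)
    (dim_support_structure hX).le).2 (dim_support_structure hX)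

theorem nonempty_push_tensor {X Y : Scheme.{u}} (f : X ⟶ Y) (E : Y.Modules) (hE : FlatMod.IsFinLocFree E) :
    Nonempty ((Coh.push f).obj ((Scheme.Modules.pullback f).obj E) ≅
      CohB1.tensorMod E ((Coh.push f).obj (Coh.structureModule X))) := by
  haveI : Limits.PreservesFiniteLimits (Scheme.Modules.pushforward f) := QCoh.preservesFiniteLimits_push f
  obtain ⟨e⟩ := KFlatLib.nonempty_rpush_tensor_finLocFree f (Coh.structureModule X) E hE 0
  let z := (Scheme.Modules.pushforward f).rightDerivedZeroIsoSelf
  exact ⟨(Coh.push f).mapIso (PicMul.unit _).some.symm ≪≫ (z.app _).symm ≪≫ e.symm ≪≫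
    PicGrp.tensorModIso (Iso.refl E) (z.app _)⟩

variable {k : Type u} [Field k] {A B : Over (Spec (CommRingCat.of k))} [IsIntegral A.left] [IsIntegral B.left]
  (φ : A ⟶ B) [IsFinite φ.left] [Surjective φ.left]

theorem eq_genericPoint_of_map {z : A.left} (hz : φ.left.base z = genericPoint B.left) : z = genericPoint A.left :=
  (AlgSpDec.eq_of_specializes_of_isIntegralHom φ.left (genericPoint_specializes z)
    ((AVDegLib.map_eta φ).trans hz.symm)).symm

theorem residueDegree_generic [Flat φ.left] [LocallyOfFinitePresentation φ.left] (b : B.left) :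
    φ.left.residueDegree (genericPoint A.left) = φ.left.finrank b := by
  rw [AVDegLib.finrank_eq φ b]
  letI := AVDegLib.ffExt φ
  set x := genericPoint A.left
  have hx : φ.left.base x = genericPoint B.left := AVDegLib.map_eta φ
  unfold Scheme.Hom.residueDegree
  letI := (φ.left.residueFieldMap x).hom.toAlgebra
  have hbij : ∀ (Z : Scheme.{u}) (z : Z), IsField (Z.presheaf.stalk z) → Function.Bijective (Z.residue z) := by
    intro Z z hz
    letI := hz.toField
    exact ⟨RingHom.injective _, IsLocalRing.residue_surjective⟩
  let sp := B.left.presheaf.stalkSpecializes (show φ.left.base x ⤳ genericPoint B.left by rw [hx])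
  have hsp : Function.Bijective sp := by
    haveI : IsIso sp := by
      let inv := B.left.presheaf.stalkSpecializes (show genericPoint B.left ⤳ φ.left.base x by rw [hx])
      refine ⟨inv, ?_, ?_⟩ <;> simp [sp, inv]
    exact ConcreteCategory.bijective_of_isIso sp
  have hK : IsField (B.left.presheaf.stalk (φ.left.base x)) := hx ▸ CurveBundle.isField_stalk_generic
  have hL : IsField (A.left.presheaf.stalk x) := CurveBundle.isField_stalk_generic
  exact (Algebra.finrank_eq_of_equiv_equiv ((RingEquiv.ofBijective sp.hom hsp).trans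
      (RingEquiv.ofBijective (B.left.residue (φ.left.base x)).hom (hbij _ _ hK)))
    (RingEquiv.ofBijective (A.left.residue x).hom (hbij _ _ hL))
    (RingHom.ext fun a => congrArg (fun ψ => ψ (sp a)) (Scheme.residue_residueFieldMap φ.left x))).symm

theorem lenAt_eq_finrank {X : Scheme.{u}} [IsIntegral X] (M : X.Modules)
    (h : Module.Finite (X.presheaf.stalk (genericPoint X)) (M.presheaf.stalk (genericPoint X))) :
    lenAt M (genericPoint X) = CurveBundle.rk M := by
  letI := (CurveBundle.isField_stalk_generic (X := X)).toField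
  unfold lenAt CurveBundle.rk
  rw [Module.length_eq_finrank]
  exact ENat.toNat_natCast _

theorem alt_leading_integral (k : Type u) [Field k] {X : Scheme.{u}} [X.Over (Spec (CommRingCat.of k))]
    [IsProper (X ↘ Spec (CommRingCat.of k))] [IsIntegral X] {g : ℕ}
    (hX : topologicalKrullDim X = (g : WithBot ℕ∞)) (L : Fin g → X.Modules) (hL : ∀ i, PicF.IsInvertible (L i))
    {M : X.Modules} (hM : Coh.IsCoh M) :
    alt (χs k L M) = (lenAt M (genericPoint X) : ℚ) * alt (χs k L (ClSub.quotMod (ptIdeal (genericPoint X)))) := by
  classical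
  have huniv : closure ({genericPoint X} : Set X) = Set.univ := (genericPoint_spec X).def
  have hdη : topologicalKrullDim ↥(closure ({genericPoint X} : Set X)) = (g : WithBot ℕ∞) := by
    rw [huniv]
    exact (IsHomeomorph.topologicalKrullDim_eq _ (Homeomorph.Set.univ X).isHomeomorph).trans hX
  rw [alt_leading k hL hM ((topologicalKrullDim_subspace_le X _).trans hX.le),
    finsum_eq_single _ (genericPoint X) fun ξ hξ => ?_, if_pos hdη]
  refine if_neg fun h => (ne_of_lt ?_) h
  exact dim_closure_lt (by rw [huniv]; exact Set.subset_univ _) hξ hdη.le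

/-- The self-intersection of a pullback is the degree times the self-intersection. -/
theorem vol_pullback [IsProper A.hom] [IsProper B.hom] [Flat φ.left] [LocallyOfFinitePresentation φ.left] {g : ℕ}
    (hB : topologicalKrullDim B.left = (g : WithBot ℕ∞)) {N : B.left.Modules} (hN : PicF.IsInvertible N) (b : B.left) :
    @vol k _ A.left ⟨A.hom⟩ g ((Scheme.Modules.pullback φ.left).obj N) =
      (φ.left.finrank b : ℚ) * @vol k _ B.left ⟨B.hom⟩ g N := by
  letI : A.left.Over (Spec (CommRingCat.of k)) := ⟨A.hom⟩
  letI : B.left.Over (Spec (CommRingCat.of k)) := ⟨B.hom⟩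
  haveI : IsProper (A.left ↘ Spec (CommRingCat.of k)) := ‹IsProper A.hom›
  haveI : IsProper (B.left ↘ Spec (CommRingCat.of k)) := ‹IsProper B.hom›
  haveI := CurveCohLib.isNoetherian_of_proper (k := k) (X := A.left)
  haveI := CurveCohLib.isNoetherian_of_proper (k := k) (X := B.left)
  let P := (Coh.push φ.left).obj (Coh.structureModule A.left)
  have hOA := AmpleVan.isCoh_invertible (InvX.isInvertible_structureModule (X := A.left))
  have hOB := AmpleVan.isCoh_invertible (InvX.isInvertible_structureModule (X := B.left))
  have hP : Coh.IsCoh P := QCoh.isCoh_pushforward_finite φ.left hOA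
  have hrk : CurveBundle.rk P = φ.left.finrank b :=
    (rk_push_structure φ.left φ.left.isClosedMap (AVDegLib.map_eta φ) fun z hz => eq_genericPoint_of_map φ hz).trans
      (residueDegree_generic φ b)
  have hlen : lenAt P (genericPoint B.left) = φ.left.finrank b :=
    (lenAt_eq_finrank P (CurveBundle.finite_stalk_of_coh hP _)).trans hrk
  have hlenO : lenAt (Coh.structureModule B.left) (genericPoint B.left) = 1 := by
    refine (lenAt_eq_finrank _ (CurveBundle.finite_stalk_of_coh hOB _)).trans ?_
    unfold CurveBundle.rk
    exact ((LinearEquiv.ofBijective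
      (LinearMap.toSpanSingleton (B.left.presheaf.stalk (genericPoint B.left)) _ (UnitSec.one (genericPoint B.left)))
      ⟨fun a b h => sub_eq_zero.1 (UnitSec.eq_zero_of_smul_one (a - b) (by rw [sub_smul]; exact sub_eq_zero.2 h)),
        fun m => Submodule.mem_span_singleton.1 ((UnitSec.span_one _).ge (Submodule.mem_top : m ∈ ⊤))⟩).finrank_eq).symm.trans
      (Module.finrank_self _)
  have hval : ∀ n : Fin g → ℕ, χs k (fun _ : Fin g => (Scheme.Modules.pullback φ.left).obj N) (Coh.structureModule A.left) n =
      χs k (fun _ : Fin g => N) P n := by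
    intro n
    let T := Curv2.tensorPows (Coh.structureModule B.left) g (fun _ => N) n
    have hT : PicF.IsInvertible (CohB1.tensorPow N (∑ l, n l)) := InvX.isInvertible_tensorPow hN _
    let E := CohB1.tensorPow N (∑ l, n l)
    have hq : Coh.IsQCoh ((Scheme.Modules.pullback φ.left).obj E) :=
      QCoh.isQCoh_pullback φ.left (AmpleVan.isCoh_invertible hT).1
    have eA : PicF.cl (Curv2.tensorPows (Coh.structureModule A.left) g
        (fun _ => (Scheme.Modules.pullback φ.left).obj N) n) = PicF.cl ((Scheme.Modules.pullback φ.left).obj E) := by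
      rw [cl_tensorPows, Finset.prod_pow_eq_pow_sum, show PicF.cl (Coh.structureModule A.left) = 1 from rfl,
        _root_.one_mul]
      show _ = PicF.pullCl φ.left (PicF.cl E)
      rw [PicMul.cl_tensorPow, PicMul.pullCl_pow]
      rfl
    obtain ⟨e⟩ := nonempty_push_tensor φ.left E (fun x => ⟨(InvEnd.isFinLocFreeOfRank_one hT x).choose, 1, (InvEnd.isFinLocFreeOfRank_one hT x).choose_spec⟩)
    have eB : PicF.cl (Curv2.tensorPows P g (fun _ => N) n) = PicF.cl (CohB1.tensorMod E P) := by
      rw [cl_tensorPows, Finset.prod_pow_eq_pow_sum, PicMul.cl_tensor, PicMul.cl_tensorPow, _root_.mul_comm]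
    unfold χs
    rw [CurveCohLib.euler_congr (k := k) (PicMul.cl_eq_iff.1 eA).some, ← euler_push k φ.left (Over.w φ) hq,
      CurveCohLib.euler_congr (k := k) (e ≪≫ (PicMul.cl_eq_iff.1 eB.symm).some)]
  unfold vol
  rw [alt_congr hval, alt_leading_integral k hB _ (fun _ => hN) hP, alt_leading_integral k hB _ (fun _ => hN) hOB,
    hlen, hlenO, Nat.cast_one, _root_.one_mul]

end Groth.Agent.AVDegPoly
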