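import Groth.Agent.IntNum.Lead
import Groth.Agent.Snapper.Multi
import Groth.Agent.H23.PicMul
import Groth.Agent.CohGabLib.SerreSupp
import Groth.Agent.InvX.Tensor

/-! Top self-intersection numbers of classes in a finitely generated group of invertible classes. -/

noncomputable section

set_option linter.style.haveILetI false
set_option backward.isDefEq.respectTransparency false
set_option backward.isDefEq.respectTransparency.types false

universe u

open CategoryTheory CategoryTheory.Limits AlgebraicGeometry TopologicalSpace MvPolynomial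

namespace Groth.Agent.AVDegPoly

open Groth.Agent Groth.Agent.IntNum Groth.Agent.Snapper Groth.Agent.H23
open scoped Groth.Agent.H23.PicMul

variable (k : Type u) [Field k] {X : Scheme.{u}} [X.Over (Spec (CommRingCat.of k))]
  [IsProper (X ↘ Spec (CommRingCat.of k))]

theorem cl_tensorPows (A : X.Modules) : ∀ {r : ℕ} (L : Fin r → X.Modules) (n : Fin r → ℕ),
    PicF.cl (Curv2.tensorPows A r L n) = PicF.cl A * ∏ i, PicF.cl (L i) ^ n i
  | 0, _, _ => by simp [Curv2.tensorPows]
  | r + 1, L, n => by
    show PicF.cl (CohB1.tensorMod _ _) = _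
    rw [PicMul.cl_tensor, cl_tensorPows A (fun i => L i.castSucc) (fun i => n i.castSucc), PicMul.cl_tensorPow,
      Fin.prod_univ_castSucc, _root_.mul_assoc]

omit [IsProper (X ↘ Spec (CommRingCat.of k))] in
theorem χs_eq_of_cl {r s : ℕ} {L : Fin r → X.Modules} {M : Fin s → X.Modules} {n : Fin r → ℕ} {m : Fin s → ℕ}
    (h : (∏ i, PicF.cl (L i) ^ n i : PicF.Cl X) = ∏ i, PicF.cl (M i) ^ m i) :
    χs k L (Coh.structureModule X) n = χs k M (Coh.structureModule X) m := by
  have e : PicF.cl (Curv2.tensorPows (Coh.structureModule X) r L n) =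
      PicF.cl (Curv2.tensorPows (Coh.structureModule X) s M m) := by rw [cl_tensorPows, cl_tensorPows, h]
  exact congrArg Int.cast (CurveCohLib.euler_congr (k := k) (PicMul.cl_eq_iff.1 e).some)

/-- The top self-intersection number. -/
def vol (g : ℕ) (N : X.Modules) : ℚ := alt (χs k (fun _ : Fin g => N) (Coh.structureModule X))

theorem vol_congr (g : ℕ) {N N' : X.Modules} (h : PicF.cl N = PicF.cl N') : vol k g N = vol k g N' :=
  alt_congr fun n => χs_eq_of_cl k (by simp only [h])

theorem alt_const_mul {d : ℕ} (c : ℚ) (f : (Fin d → ℕ) → ℚ) : alt (fun n => c * f n) = c * alt f := by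
  unfold alt; rw [Finset.mul_sum]; exact Finset.sum_congr rfl fun x _ => by ring

theorem alt_sum {d : ℕ} {ι : Type*} (s : Finset ι) (f : ι → (Fin d → ℕ) → ℚ) :
    alt (fun n => ∑ j ∈ s, f j n) = ∑ j ∈ s, alt (f j) := by
  unfold alt; simp only [Finset.mul_sum]; exact Finset.sum_comm

theorem eval_smul_of_isHomogeneous {σ : Type*} {Q : MvPolynomial σ ℚ} {j : ℕ} (h : Q.IsHomogeneous j) (t : ℚ)
    (x : σ → ℚ) : eval (fun i => t * x i) Q = t ^ j * eval x Q := by
  rw [eval_eq, eval_eq, Finset.mul_sum]
  refine Finset.sum_congr rfl fun α hα => ?_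
  have hdeg : ∑ i ∈ α.support, α i = j := by
    have := h (mem_support_iff.1 hα)
    rw [← this]
    simp [Finsupp.weight_apply, Finsupp.sum]
  simp only [mul_pow, Finset.prod_mul_distrib, Finset.prod_pow_eq_pow_sum, hdeg]
  ring

theorem alt_pow_sum_eq_zero {g j : ℕ} (hj : j < g) : alt (fun n : Fin g → ℕ => (∑ l, (n l : ℚ)) ^ j) = 0 := by
  refine alt_of_isMPolyLt ⟨(∑ l, X l) ^ j, degLt_of_totalDegree (lt_of_le_of_lt ?_ hj), fun n => by simp⟩
  refine (totalDegree_pow _ _).trans ?_
  refine (Nat.mul_le_mul_left j (?_ : (∑ l : Fin g, (X l : MvPolynomial (Fin g) ℚ)).totalDegree ≤ 1)).trans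
    (Nat.mul_one j).le
  exact (totalDegree_finsetSum _ _).trans (Finset.sup_le fun l _ => (totalDegree_X l).le)

theorem exists_poly_int {g : ℕ} (hd : topologicalKrullDim X ≤ (g : WithBot ℕ∞)) {s : ℕ} (M D : Fin s → X.Modules)
    (hM : ∀ i, PicF.IsInvertible (M i)) (hD : ∀ i, PicF.IsInvertible (D i))
    (hMD : ∀ i, PicF.cl (M i) * PicF.cl (D i) = 1) :
    ∃ Q : MvPolynomial (Fin s) ℚ, Q.totalDegree ≤ g ∧ ∀ u v : Fin s → ℕ,
      χs k (Fin.append M D) (Coh.structureModule X) (Fin.append u v) = eval (fun i => (u i : ℚ) - v i) Q := by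
  haveI := CurveCohLib.isNoetherian_of_proper (k := k) (X := X)
  have hL : ∀ i, PicF.IsInvertible (Fin.append M D i) := Fin.addCases (fun i => by rw [Fin.append_left]; exact hM i)
    (fun i => by rw [Fin.append_right]; exact hD i)
  obtain ⟨P, hP, hPn⟩ := exists_mpoly k (r := s + s) hL
    (AmpleVan.isCoh_invertible (InvX.isInvertible_structureModule (X := X))) (d := g)
    (by rw [CohGabLib.support_structure]; exact (topologicalKrullDim_subspace_le X Set.univ).trans hd)
  let σl : Fin (s + s) → MvPolynomial (Fin (s + s)) ℚ :=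
    Fin.append (fun i => MvPolynomial.X (Fin.castAdd s i) + MvPolynomial.X (Fin.natAdd s i)) (fun i => MvPolynomial.X (Fin.natAdd s i))
  let σr : Fin (s + s) → MvPolynomial (Fin (s + s)) ℚ :=
    Fin.append (fun i => MvPolynomial.X (Fin.castAdd s i)) (fun _ => 0)
  let π : Fin (s + s) → MvPolynomial (Fin s) ℚ := Fin.append (fun i => MvPolynomial.X i) (fun _ => 0)
  have evl : ∀ x : Fin (s + s) → ℚ, eval x (aeval σl P) = eval (Fin.append (fun i => x (Fin.castAdd s i) +
      x (Fin.natAdd s i)) (fun i => x (Fin.natAdd s i))) P := fun x => by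
    rw [eval_aeval]; congr 2; funext j
    refine Fin.addCases (fun i => ?_) (fun i => ?_) j <;> simp [σl, -Fin.natAdd_eq_addNat]
  have evr : ∀ x : Fin (s + s) → ℚ, eval x (aeval σr P) = eval (Fin.append (fun i => x (Fin.castAdd s i))
      (fun _ => 0)) P := fun x => by
    rw [eval_aeval]; congr 2; funext j
    refine Fin.addCases (fun i => ?_) (fun i => ?_) j <;> simp [σr, -Fin.natAdd_eq_addNat]
  have evπ : ∀ x : Fin s → ℚ, eval x (aeval π P) = eval (Fin.append x (fun _ => 0)) P := fun x => by
    rw [eval_aeval]; congr 2; funext j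
    refine Fin.addCases (fun i => ?_) (fun i => ?_) j <;> simp [π, -Fin.natAdd_eq_addNat]
  have hid : aeval σl P = aeval σr P := by
    refine MvPolynomial.funext_set (fun _ => Set.range ((↑) : ℕ → ℚ))
      (fun _ => Set.infinite_range_of_injective Nat.cast_injective) fun x hx => ?_
    choose n hn using fun i => hx i (Set.mem_univ i)
    obtain rfl : (fun i => (n i : ℚ)) = x := funext hn
    rw [evl, evr]
    let m₁ : Fin (s + s) → ℕ := Fin.append (fun i => n (Fin.castAdd s i) + n (Fin.natAdd s i))
      (fun i => n (Fin.natAdd s i))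
    let m₂ : Fin (s + s) → ℕ := Fin.append (fun i => n (Fin.castAdd s i)) (fun _ => 0)
    have e₁ := hPn m₁
    have e₂ := hPn m₂
    have hc := χs_eq_of_cl k (X := X) (L := Fin.append M D) (M := Fin.append M D) (n := m₁) (m := m₂) (by
      simp only [Fin.prod_univ_add, m₁, m₂, Fin.append_left, Fin.append_right, pow_zero, Finset.prod_const_one,
        _root_.mul_one, pow_add, Finset.prod_mul_distrib]
      rw [_root_.mul_assoc, ← Finset.prod_mul_distrib]
      simp only [← mul_pow, hMD, one_pow, Finset.prod_const_one, _root_.mul_one])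
    unfold χs at hc
    rw [e₁, e₂] at hc
    convert hc using 3 <;> funext j <;> refine Fin.addCases (fun i => ?_) (fun i => ?_) j <;> simp [m₁, m₂, -Fin.natAdd_eq_addNat]
  refine ⟨aeval π P, ?_, fun u v => ?_⟩
  · refine (DegLt.totalDegree_le (d := g) ?_)
    refine DegLt.aeval (degLt_of_totalDegree (Nat.lt_succ_of_le hP)) π (Fin.addCases (fun i => ?_) fun i => ?_) <;>
      simp [π, -Fin.natAdd_eq_addNat]
  · show ((Curv2.euler k X _ : ℤ) : ℚ) = _
    rw [hPn, evπ]
    have h := congrArg (eval (Fin.append (fun i => (u i : ℚ) - v i) (fun i => (v i : ℚ)))) hid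
    rw [evl, evr] at h
    simp only [Fin.append_left, Fin.append_right, sub_add_cancel] at h
    convert h using 3
    funext j
    refine Fin.addCases (fun i => ?_) (fun i => ?_) j <;> simp [-Fin.natAdd_eq_addNat]

/-- The top self-intersection number is a form of degree `g` in the exponents. -/
theorem exists_vol_poly {g : ℕ} (hd : topologicalKrullDim X ≤ (g : WithBot ℕ∞)) {s : ℕ} (M : Fin s → X.Modules)
    (hM : ∀ i, PicF.IsInvertible (M i)) :
    ∃ H : MvPolynomial (Fin s) ℚ, H.IsHomogeneous g ∧ ∀ (a : Fin s → ℤ) (N : X.Modules)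
      (hN : PicF.IsInvertible N), (PicMul.isUnit_cl hN).unit = ∏ i, (PicMul.isUnit_cl (hM i)).unit ^ a i →
        vol k g N = eval (fun i => (a i : ℚ)) H := by
  choose D hD e using fun i => PicInv.exists_inverse (hM i)
  have hMD : ∀ i, PicF.cl (M i) * PicF.cl (D i) = 1 := fun i => (PicGrp.cl_eq_cl_iff _ _).2 (e i)
  obtain ⟨Q, hQ, hQn⟩ := exists_poly_int k hd M D hM hD hMD
  refine ⟨C (alt fun n : Fin g → ℕ => (∑ l, (n l : ℚ)) ^ g) * homogeneousComponent g Q, ?_, fun a N hN ha => ?_⟩
  · simpa using (homogeneousComponent_isHomogeneous g Q).C_mul _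
  · have hval : ∀ n : Fin g → ℕ, χs k (fun _ : Fin g => N) (Coh.structureModule X) n =
        ∑ j ∈ Finset.range (g + 1), eval (fun i => (a i : ℚ)) (homogeneousComponent j Q) * (∑ l, (n l : ℚ)) ^ j := by
      intro n
      let S := ∑ l, n l
      let u : Fin s → ℕ := fun i => (a i).toNat * S
      let v : Fin s → ℕ := fun i => (-a i).toNat * S
      have hcl : (∏ _l : Fin g, PicF.cl N ^ n _l : PicF.Cl X) = ∏ i, PicF.cl (Fin.append M D i) ^ Fin.append u v i := by
        rw [Finset.prod_pow_eq_pow_sum, Fin.prod_univ_add]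
        simp only [Fin.append_left, Fin.append_right]
        let U := fun i => (PicMul.isUnit_cl (hM i)).unit
        have hU : ∀ i, ((U i : (PicF.Cl X)ˣ) : PicF.Cl X) = PicF.cl (M i) := fun i => rfl
        have hUi : ∀ i, (((U i)⁻¹ : (PicF.Cl X)ˣ) : PicF.Cl X) = PicF.cl (D i) := fun i =>
          Units.inv_eq_of_mul_eq_one_right (by rw [hU]; exact hMD i)
        have h2 : (PicMul.isUnit_cl hN).unit ^ S = (∏ i, U i ^ u i) * ∏ i, (U i)⁻¹ ^ v i := by
          rw [ha, ← Finset.prod_pow, ← Finset.prod_mul_distrib]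
          refine Finset.prod_congr rfl fun i _ => ?_
          rw [← zpow_natCast, ← zpow_mul, ← zpow_natCast, inv_pow, ← zpow_natCast, ← zpow_neg, ← zpow_add]
          congr 1
          have := Int.toNat_sub_toNat_neg (a i)
          simp only [u, v, Nat.cast_mul]
          linear_combination -(S : ℤ) * this
        have h3 := congrArg Units.val h2
        simpa only [Units.val_pow_eq_pow_val, Units.val_mul, Units.coe_prod, hU, hUi, IsUnit.unit_spec] using h3
      have hx : (fun i => (u i : ℚ) - v i) = fun i => (∑ l, (n l : ℚ)) * (a i : ℚ) := by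
        funext i
        have := congrArg (fun z : ℤ => (z : ℚ)) (Int.toNat_sub_toNat_neg (a i))
        simp only [Int.cast_sub, Int.cast_natCast] at this
        simp only [u, v, S, Nat.cast_mul, Nat.cast_sum]
        linear_combination (∑ l, (n l : ℚ)) * this
      rw [χs_eq_of_cl k hcl, hQn, hx]
      have hdec : Q = ∑ j ∈ Finset.range (g + 1), homogeneousComponent j Q := by
        conv_lhs => rw [← sum_homogeneousComponent Q]
        refine Finset.sum_subset (Finset.range_subset_range.2 (by omega)) fun j _ hj =>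
          homogeneousComponent_eq_zero _ _ (by simpa using hj)
      conv_lhs => rw [hdec, map_sum]
      exact Finset.sum_congr rfl fun j _ => by
        rw [eval_smul_of_isHomogeneous (homogeneousComponent_isHomogeneous j Q)]; ring
    unfold vol
    rw [alt_congr hval, alt_sum, Finset.sum_range_succ, Finset.sum_eq_zero fun j hj => by
      rw [alt_const_mul, alt_pow_sum_eq_zero (Finset.mem_range.1 hj), mul_zero], zero_add, alt_const_mul, map_mul, eval_C]
    ring

end Groth.Agent.AVDegPoly
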