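import Groth.Agent.HilbPoly.Pos
import Groth.Agent.Snapper.IsoOn
import Groth.Agent.Snapper.Main
import Groth.Agent.AmpleX.FiniteSet
import Groth.Agent.InvX.GenLocusPull
import Groth.Agent.KFlatLib.Scheme.ProjModule

/-! Vanishing of top differences for modules generated by few sections. -/

noncomputable section

set_option linter.style.haveILetI false
set_option backward.isDefEq.respectTransparency false
set_option backward.isDefEq.respectTransparency.types false

universe u

open CategoryTheory CategoryTheory.Limits AlgebraicGeometry TopologicalSpace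

attribute [local instance] HasDerivedCategory.standard

namespace Groth.Agent.AVDegPoly

open Groth.Agent Groth.Agent.HilbPoly
open scoped Groth.Agent.H23.PicMul

variable {X : Scheme.{u}}

theorem additive_map [IsNoetherian X] {G : X.Modules → ℤ} (hG : HilbPoly.Additive G) {A B : X.Modules}
    (hA : Coh.IsCoh A) (hB : Coh.IsCoh B) (φ : A ⟶ B) :
    G A + G (cokernel φ) = G B + G (kernel φ) := by
  have hK := QCoh.isCoh_kernel hA hB φ
  have hC := QCoh.isCoh_cokernel hA.1 hB φ
  have hI : Coh.IsCoh (Abelian.image φ) :=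
    QCoh.isCoh_of_epi (Abelian.factorThruImage φ) hA (QCoh.isQCoh_kernel hB.1 hC.1 _)
  have h1 := hG.add (ShortComplex.mk (kernel.ι φ) (Abelian.factorThruImage φ)
      ((cancel_mono (Abelian.image.ι φ)).1 (by rw [Category.assoc, Abelian.image.fac, kernel.condition, zero_comp])))
    { exact := ShortComplex.exact_of_f_is_kernel _ (KernelFork.IsLimit.ofι' _ _ fun {T} t ht =>
        ⟨kernel.lift φ t (by rw [← Abelian.image.fac φ, reassoc_of% ht, zero_comp]), kernel.lift_ι _ _ _⟩)
      mono_f := inferInstance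
      epi_g := inferInstance } hK hA hI
  have h2 := hG.add (ShortComplex.mk (Abelian.image.ι φ) (cokernel.π φ) (kernel.condition _))
    { exact := ShortComplex.exact_of_f_is_kernel _ (kernelIsKernel (cokernel.π φ))
      mono_f := inferInstance
      epi_g := inferInstance } hI hB hC
  dsimp only at h1 h2
  rw [h1, h2]
  ring

theorem isoOn_mulHom {N : X.Modules} (s : Coh.structureModule X ⟶ N) (M : X.Modules) :
    Snapper.IsoOn (CohB1.genLocus N s) (mulHom s M) := by
  intro x hx
  obtain ⟨U, hU, hxU⟩ := Opens.mem_sSup.1 hx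
  let U : X.Opens := U
  haveI : IsIso ((Scheme.Modules.restrictFunctor U.ι).map s) := hU
  haveI := isIso_restrict_mulHom s M (U := U)
  have hb := ConcreteCategory.bijective_of_isIso
    ((DerSch.stalkFunctor (U : Scheme.{u}) ⟨x, hxU⟩).map ((Scheme.Modules.restrictFunctor U.ι).map (mulHom s M)))
  exact (ConcreteCategory.isIso_iff_bijective _).2 ⟨KFlatLib.injective_stalk_of_restrict U.ι _ ⟨x, hxU⟩ hb.1,
    KFlatLib.surjective_stalk_of_restrict U.ι _ ⟨x, hxU⟩ hb.2⟩

/-- If `r` sections of `N` have no common zero on the support, the `r`-th difference vanishes. -/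
theorem iterD_eq_zero_of_sections [IsNoetherian X] {φ : X.Modules → ℤ} (hφ : HilbPoly.Additive φ) {N : X.Modules}
    (hN : PicF.IsInvertible N) : ∀ (r : ℕ) (s : Fin r → (Coh.structureModule X ⟶ N)) (F : X.Modules), Coh.IsCoh F →
      (∀ x ∈ CohB1.support F, ∃ i, x ∈ CohB1.genLocus N (s i)) → iterD (List.replicate r N) φ F = 0
  | 0, _, F, _, h => hφ.zero_of_isZero (CurveCohLib.isZero_of_subsingleton_stalks fun x => not_not.1 fun hx =>
      (h x hx).elim fun i _ => i.elim0)
  | r + 1, s, F, hF, h => by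
    have hG : HilbPoly.Additive (iterD (List.replicate r N) φ) :=
      additive_iterD hφ fun _ hM => (List.eq_of_mem_replicate hM) ▸ hN
    let P := (AmpleVan.tw N).obj F
    have hP : Coh.IsCoh P := AmpleVan.isCoh_tensor hF (AmpleVan.isCoh_invertible hN)
    have hsP : CohB1.support P ⊆ CohB1.support F := fun x hx => by
      by_contra hxF
      haveI : Subsingleton (F.presheaf.stalk x) := not_not.1 hxF
      exact hx (ModuleCat.subsingleton_of_isZero (KFlatLib.isZero_stalk_tensor_left x F N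
        (@ModuleCat.isZero_of_subsingleton _ _ ((DerSch.stalkFunctor X x).obj F) ‹_›)))
    let f : F ⟶ P := mulHom (s 0) F
    have hK := QCoh.isCoh_kernel hF hP f
    have hC := QCoh.isCoh_cokernel hF.1 hP f
    obtain ⟨hk, hc⟩ := Snapper.support_subset_compl (isoOn_mulHom (s 0) F)
    obtain ⟨hk', hc'⟩ := Snapper.support_sub_of_map hF hP f
    have key : ∀ Q : X.Modules, CohB1.support Q ⊆ CohB1.support F →
        CohB1.support Q ⊆ (CohB1.genLocus N (s 0) : Set X)ᶜ →
        ∀ x ∈ CohB1.support Q, ∃ i : Fin r, x ∈ CohB1.genLocus N (s i.succ) := fun Q h₁ h₂ x hx => by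
      obtain ⟨i, hi⟩ := h x (h₁ hx)
      exact Fin.cases (fun hi => absurd hi (h₂ hx)) (fun j hj => ⟨j, hj⟩) i hi
    have e1 := iterD_eq_zero_of_sections hφ hN r (fun i => s i.succ) _ hK (key _ hk' hk)
    have e2 := iterD_eq_zero_of_sections hφ hN r (fun i => s i.succ) _ hC (key _ (hc'.trans hsP) hc)
    have hm := additive_map hG hF hP f
    rw [e1, e2, add_zero, add_zero] at hm
    show iterD _ φ P - iterD _ φ F = 0
    rw [hm, sub_self]

/-- A set covered by finitely many closed sets of small dimension has small dimension. -/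
theorem dim_lt_of_cover {C : Set X} {ι : Type*} [Finite ι] (Y : ι → Set X) (hYc : ∀ i, IsClosed (Y i))
    (hcov : C ⊆ ⋃ i, Y i) {d : ℕ} (hY : ∀ i, topologicalKrullDim ↥(Y i) < (d : WithBot ℕ∞)) :
    topologicalKrullDim ↥C < (d : WithBot ℕ∞) := by
  let Y' : ι → Set ↥C := fun i => Subtype.val ⁻¹' Y i
  have hle : ∀ i, topologicalKrullDim ↥(Y' i) ≤ topologicalKrullDim ↥(Y i) := fun i =>
    (Topology.IsInducing.of_comp (f := fun c : ↥(Y' i) => (⟨c.1.1, c.2⟩ : ↥(Y i)))
      (g := fun y : ↥(Y i) => y.1) (by fun_prop) continuous_subtype_val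
      ((Topology.IsInducing.subtypeVal (t := C)).comp (Topology.IsInducing.subtypeVal (t := Y' i)))).topologicalKrullDim_le
  have hcov' : ⋃ i, Y' i = Set.univ := Set.eq_univ_of_forall fun c => by
    obtain ⟨i, hi⟩ := Set.mem_iUnion.1 (hcov c.2)
    exact Set.mem_iUnion.2 ⟨i, hi⟩
  rw [H23.TopDim.dim_eq_iSup_of_closed_cover (fun i => (hYc i).preimage continuous_subtype_val)
    (locallyFinite_of_finite Y') hcov']
  rcases isEmpty_or_nonempty ι with h | h
  · rw [iSup_of_empty]
    exact WithBot.bot_lt_coe _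
  · obtain ⟨i, hi⟩ := exists_eq_ciSup_of_finite (f := fun i => topologicalKrullDim ↥(Y' i))
    exact hi ▸ (hle i).trans_lt (hY i)

/-- A closed set of small dimension is covered by few sections of a power of an ample module. -/
theorem exists_sections [X.IsSeparated] [IsNoetherian X] {L : X.Modules} (hL : CohB1.IsAmple L) :
    ∀ (d : ℕ) (C : Set X), IsClosed C → topologicalKrullDim ↥C < (d : WithBot ℕ∞) →
      ∃ (n : ℕ) (s : Fin d → (Coh.structureModule X ⟶ CohB1.tensorPow L (n + 1))),
        ∀ x ∈ C, ∃ i, x ∈ CohB1.genLocus _ (s i) := by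
  intro d
  induction d with
  | zero =>
    intro C _ hC
    refine ⟨0, Fin.elim0, fun x hx => ?_⟩
    haveI : Nonempty (IrreducibleCloseds ↥C) :=
      ⟨⟨closure {⟨x, hx⟩}, isIrreducible_singleton.closure, isClosed_closure⟩⟩
    exact absurd (Order.krullDim_nonneg (α := IrreducibleCloseds ↥C)) (not_le_of_gt hC)
  | succ d ih =>
    intro C hC hd
    have hfinC := NoetherianSpace.exists_finite_set_isClosed_irreducible hC
    obtain ⟨S, hSf, hScl, hSirr, hCS⟩ := hfinC
    choose ξ hξ using fun Z : ↥S => QuasiSober.sober (hSirr Z.1 Z.2) (hScl Z.1 Z.2)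
    haveI := hSf.fintype
    obtain ⟨m, t, ht, -, -⟩ := AmpleX.exists_finite_nhd hL (Set.finite_range ξ) (U := ⊤) (fun _ _ => trivial)
    let C' := C ∩ (CohB1.genLocus _ t : Set X)ᶜ
    have hC' : IsClosed C' := hC.inter (CohB1.genLocus _ t).isOpen.isClosed_compl
    have hd' : topologicalKrullDim ↥C' < (d : WithBot ℕ∞) := by
      let Y : ↥S → Set X := fun Z => C' ∩ Z.1
      have hcov : C' ⊆ ⋃ Z, Y Z := fun x hx => by
        obtain ⟨Z, hZ, hxZ⟩ := Set.mem_sUnion.1 (hCS ▸ hx.1)
        exact Set.mem_iUnion.2 ⟨⟨Z, hZ⟩, hx, hxZ⟩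
      have hY : ∀ Z, topologicalKrullDim ↥(Y Z) < (d : WithBot ℕ∞) := fun Z => by
        have hcl : closure ({ξ Z} : Set X) = Z.1 := (hξ Z).def
        refine dim_lt_closure (x := ξ Z) (le_of_lt_succ ?_) (hC'.inter (hScl Z.1 Z.2))
          (hcl ▸ Set.inter_subset_right) (fun h => h.1.2 (ht ⟨Z, rfl⟩))
        rw [hcl]
        exact (H23.TopDim.dim_le_dim_of_subset (fun x hx => hCS ▸ Set.mem_sUnion.2 ⟨Z.1, Z.2, hx⟩)).trans_lt hd
      exact dim_lt_of_cover Y (fun Z => hC'.inter (hScl Z.1 Z.2)) hcov hY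
    obtain ⟨n, s, hs⟩ := ih C' hC' hd'
    have hpow : ∀ (a b D : ℕ) (u : Coh.structureModule X ⟶ CohB1.tensorPow L (a + 1)), D = (a + 1) * (b + 1) →
        ∃ v : Coh.structureModule X ⟶ CohB1.tensorPow L D, CohB1.genLocus _ v = CohB1.genLocus _ u := fun a b D u hD => by
      obtain ⟨v, hv⟩ := AmpleX.exists_section_of_cl_eq (B := CohB1.tensorPow L D)
        (by rw [H23.PicMul.cl_tensorPow, H23.PicMul.cl_tensorPow, H23.PicMul.cl_tensorPow, ← pow_mul, hD])
        (InvX.powHom u (b + 1))
      exact ⟨v, hv.trans (InvX.genLocus_powHom (InvX.isInvertible_tensorPow hL.1 _) _ b)⟩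
    choose v hv using fun i => hpow n m ((n + 1) * m + n + 1) (s i) (by ring)
    obtain ⟨w, hw⟩ := hpow m n ((n + 1) * m + n + 1) t (by ring)
    refine ⟨(n + 1) * m + n, Fin.cons w v, fun x hx => ?_⟩
    by_cases hxt : x ∈ CohB1.genLocus _ t
    · exact ⟨0, by rw [Fin.cons_zero, hw]; exact hxt⟩
    · obtain ⟨i, hi⟩ := hs x ⟨hx, hxt⟩
      exact ⟨i.succ, by rw [Fin.cons_succ, hv i]; exact hi⟩

end Groth.Agent.AVDegPoly
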