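import Groth.Agent.AVDegPoly.Pullback
import Groth.Agent.AVDegPoly.Zero
import Groth.Agent.Lib.AVCube
import Groth.Agent.S8121
import Groth.Agent.AmpleX.Basis
import Groth.Agent.H23.Isogeny
import Groth.Agent.GrpSchLib.HomFlat
import Groth.Agent.GrpSchLib.SmoothReduced
import Groth.Agent.S12442

/-! The degree is a homogeneous polynomial of degree `2g` on finitely generated groups of homomorphisms. -/

noncomputable section

set_option linter.style.haveILetI false
set_option backward.isDefEq.respectTransparency false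
set_option backward.isDefEq.respectTransparency.types false

universe u

open CategoryTheory CategoryTheory.Limits MonoidalCategory CartesianMonoidalCategory MonObj GrpObj AlgebraicGeometry
  TopologicalSpace

namespace Groth.Agent.AVDegPoly

open Groth.Agent Groth.Agent.H23 Groth.Agent.AVCube
open scoped Groth.Agent.H23.PicMul

/-- A unit of `Cl X` represented by an invertible module. -/
def Good {X : Scheme.{u}} (c : (PicF.Cl X)ˣ) : Prop :=
  ∃ (N : X.Modules) (hN : PicF.IsInvertible N), (PicMul.isUnit_cl hN).unit = c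

theorem Good.mul {X : Scheme.{u}} {c d : (PicF.Cl X)ˣ} : Good c → Good d → Good (c * d)
  | ⟨M, hM, h⟩, ⟨N, hN, h'⟩ => ⟨CohB1.tensorMod M N, PicMul.isInvertible_tensor hM hN, by
      subst h h'; exact Units.ext rfl⟩

theorem Good.inv {X : Scheme.{u}} {c : (PicF.Cl X)ˣ} : Good c → Good c⁻¹
  | ⟨M, hM, h⟩ => by
    obtain ⟨D, hD, e⟩ := PicInv.exists_inverse hM
    refine ⟨D, hD, eq_inv_of_mul_eq_one_left (Units.ext ?_)⟩
    subst h
    exact (mul_comm _ _).trans ((PicGrp.cl_eq_cl_iff _ _).2 e)

variable {k : Type u} [Field k] {A B : Over (Spec (CommRingCat.of k))}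

theorem good_pc {L : B.left.Modules} (hL : PicF.IsInvertible L) (f : A ⟶ B) : Good (pc hL f) :=
  ⟨_, PicClLib.isInvertible_pullback f.left hL, Units.ext rfl⟩

set_option linter.unusedSectionVars false

variable [GrpObj A] [IsProper A.hom] [GeometricallyIntegral A.hom]
  [GrpObj B] [IsCommMonObj B] [IsProper B.hom] [GeometricallyIntegral B.hom]

/-- Products of integral powers of homomorphisms are homomorphisms. -/
theorem isMonHom_prod_zpow {m : ℕ} (f : Fin m → (A ⟶ B)) [∀ i, IsMonHom (f i)] (a : Fin m → ℤ) :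
    IsMonHom (∏ i, f i ^ a i) := by
  have hmul : ∀ u v : A ⟶ B, IsMonHom u → IsMonHom v → IsMonHom (u * v) := fun u v hu hv => by
    show IsMonHom (lift u v ≫ μ[B]); infer_instance
  have hone : IsMonHom (1 : A ⟶ B) := by
    show IsMonHom (toUnit A ≫ η[B]); infer_instance
  refine Finset.prod_induction _ (fun u : A ⟶ B => IsMonHom u) hmul hone fun i _ => ?_
  generalize a i = z
  induction z using Int.induction_on with
  | zero => rw [zpow_zero]; exact hone
  | succ n ih => rw [zpow_add_one]; exact hmul _ _ ih inferInstance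
  | pred n ih => rw [zpow_sub_one]; exact hmul _ _ ih inferInstance

/-- A homomorphism between abelian varieties of the same dimension is finite as soon as it is surjective. -/
theorem isFinite_of_surjective {g : ℕ} (hA : topologicalKrullDim A.left = g) (hB : topologicalKrullDim B.left = g)
    (F : A ⟶ B) [IsMonHom F] [Surjective F.left] :
    IsFinite F.left ∧ Flat F.left ∧ LocallyOfFinitePresentation F.left := by
  haveI : IsIntegral A.left := GeometricallyIntegral.isIntegral_of_subsingleton A.hom
  haveI : IsIntegral B.left := GeometricallyIntegral.isIntegral_of_subsingleton B.hom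
  haveI : IsProper (F.left ≫ B.hom) := by rw [Over.w F]; infer_instance
  haveI : IsProper F.left := IsProper.of_comp F.left B.hom
  haveI : Flat F.left := GrpSchLib.flat_of_surjective_hom F
  haveI : LocallyOfFinitePresentation F.left := S12442.locallyOfFinitePresentation_of_comp F.left B.hom
  exact ⟨H23.Isogeny.isFinite_of_flat A.hom B.hom F.left (Over.w F) (hA.trans hB.symm), inferInstance, inferInstance⟩

/-- Quadraticity of pullbacks of a symmetric class. -/
theorem pc_prod_sq {L : B.left.Modules} (hL : PicF.IsInvertible L)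
    (hsym : pc hL ((𝟙 B)⁻¹ : B ⟶ B) = pc hL (𝟙 B)) {m : ℕ} (f : Fin m → (A ⟶ B)) :
    ∃ β : Fin m → Fin m → (PicF.Cl A.left)ˣ, (∀ i j, Good (β i j)) ∧
      ∀ a : Fin m → ℤ, pc hL (∏ i, f i ^ a i) ^ 2 = ∏ p : Fin m × Fin m, β p.1 p.2 ^ (a p.1 * a p.2) := by
  let q : (A ⟶ B) → (PicF.Cl A.left)ˣ := fun u => pc hL u
  have hcube : ∀ u v w, q (u * v * w) * q u * q v * q w = q (u * v) * q (u * w) * q (v * w) := cube_rel hL
  have hinv : ∀ u, q u⁻¹ = q u := fun u => by
    show pc hL u⁻¹ = pc hL u
    conv_rhs => rw [← Category.comp_id u]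
    rw [show u⁻¹ = u ≫ (𝟙 B)⁻¹ by rw [GrpObj.comp_inv, Category.comp_id], ← pull_pc, hsym, pull_pc]
  let b : (A ⟶ B) → (A ⟶ B) → (PicF.Cl A.left)ˣ := fun u v => q (u * v) / (q u * q v)
  have hbl : ∀ u v w, b (u * v) w = b u w * b v w := fun u v w => by
    have h := hcube u v w
    simp only [b]
    rw [div_mul_div_comm, div_eq_div_iff_mul_eq_mul]
    calc q (u * v * w) * (q u * q w * (q v * q w)) = q (u * v * w) * q u * q v * q w * q w := by ac_rfl
      _ = q (u * v) * q (u * w) * q (v * w) * q w := by rw [h]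
      _ = q (u * w) * q (v * w) * (q (u * v) * q w) := by ac_rfl
  have hbs : ∀ u v, b u v = b v u := fun u v => by simp only [b, mul_comm u v, mul_comm (q u) (q v)]
  let bil : (A ⟶ B) →* ((A ⟶ B) →* (PicF.Cl A.left)ˣ) := MonoidHom.mk'
    (fun u => MonoidHom.mk' (b u) fun v w => by rw [hbs u, hbl, hbs v, hbs w])
    fun u v => MonoidHom.ext fun w => hbl u v w
  have hsq : ∀ u, q u ^ 2 = b u u := fun u => by
    have h1 : b u u⁻¹ = (b u u)⁻¹ := map_inv (bil u) u
    have h2 : b u u⁻¹ = (q u ^ 2)⁻¹ := by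
      show q (u * u⁻¹) / (q u * q u⁻¹) = _
      rw [mul_inv_cancel, hinv, show q (1 : A ⟶ B) = 1 from pc_one hL A, one_div, sq]
    exact inv_injective (h2.symm.trans h1)
  refine ⟨fun i j => b (f i) (f j), fun i j => ?_, fun a => ?_⟩
  · simp only [b, q, div_eq_mul_inv]
    exact (good_pc hL _).mul (((good_pc hL _).mul (good_pc hL _)).inv)
  · show q _ ^ 2 = _
    rw [hsq]
    show bil (∏ i, f i ^ a i) (∏ i, f i ^ a i) = _
    simp only [map_prod, MonoidHom.finsetProd_apply, map_zpow, MonoidHom.zpow_apply, ← Finset.prod_zpow,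
      ← zpow_mul, Fintype.prod_prod_type]
    rw [Finset.prod_comm]
    refine Finset.prod_congr rfl fun i _ => Finset.prod_congr rfl fun j _ => ?_
    show b (f i) (f j) ^ _ = b (f i) (f j) ^ _
    congr 1

/-- A homomorphism which is not finite kills the top self-intersection. -/
theorem vol_eq_zero_of_not_isFinite {g : ℕ} (hA : topologicalKrullDim A.left = g) (hB : topologicalKrullDim B.left = g)
    (F : A ⟶ B) [IsMonHom F] (hF : ¬ IsFinite F.left) {L : B.left.Modules} (hL : CohB1.IsAmple L) :
    @vol k _ A.left ⟨A.hom⟩ g ((Scheme.Modules.pullback F.left).obj L) = 0 := by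
  letI : A.left.Over (Spec (CommRingCat.of k)) := ⟨A.hom⟩
  letI : B.left.Over (Spec (CommRingCat.of k)) := ⟨B.hom⟩
  haveI : IsProper (A.left ↘ Spec (CommRingCat.of k)) := ‹IsProper A.hom›
  haveI : IsProper (B.left ↘ Spec (CommRingCat.of k)) := ‹IsProper B.hom›
  haveI := CurveCohLib.isNoetherian_of_proper (k := k) (X := A.left)
  haveI := CurveCohLib.isNoetherian_of_proper (k := k) (X := B.left)
  haveI : IsIntegral B.left := GeometricallyIntegral.isIntegral_of_subsingleton B.hom
  haveI : IsProper (F.left ≫ B.hom) := by rw [Over.w F]; infer_instance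
  haveI : IsProper F.left := IsProper.of_comp F.left B.hom
  haveI : B.left.IsSeparated := ⟨by rw [← terminal.comp_from B.hom]; infer_instance⟩
  let D : Set B.left := Set.range F.left
  have hDc : IsClosed D := F.left.isClosedMap.isClosed_range
  have hDd : topologicalKrullDim ↥D < (g : WithBot ℕ∞) := by
    have hu : closure ({genericPoint B.left} : Set B.left) = Set.univ := (genericPoint_spec B.left).def
    refine HilbPoly.dim_lt_closure (x := genericPoint B.left) ?_ hDc (hu ▸ Set.subset_univ _) fun hη => hF ?_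
    · rw [hu]; exact ((IsHomeomorph.topologicalKrullDim_eq _ (Homeomorph.Set.univ B.left).isHomeomorph).trans hB).le
    · haveI : Surjective F.left := ⟨fun y => by
        have := (hu.ge.trans (closure_minimal (Set.singleton_subset_iff.2 hη) hDc)) (Set.mem_univ y)
        exact this⟩
      exact (isFinite_of_surjective hA hB F).1
  obtain ⟨n, s, hs⟩ := exists_sections hL g D hDc hDd
  let M := CohB1.tensorPow L (n + 1)
  have hM := InvX.isInvertible_tensorPow hL.1 (n + 1)
  let P := (Scheme.Modules.pullback F.left).obj M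
  have hP := PicClLib.isInvertible_pullback F.left hM
  obtain ⟨e⟩ := PicClLib.nonempty_pullback_structureModule F.left
  have h0 : vol k g P = 0 := by
    rw [vol, IntNum.alt_eq_mult, Int.cast_eq_zero]
    refine iterD_eq_zero_of_sections (HilbPoly.additive_euler k) hP g
      (fun i => e.inv ≫ (Scheme.Modules.pullback F.left).map (s i)) _
      (AmpleVan.isCoh_invertible InvX.isInvertible_structureModule) fun x _ => ?_
    obtain ⟨i, hi⟩ := hs (F.left x) ⟨x, rfl⟩
    refine ⟨i, ?_⟩
    have h := InvX.genLocus_pullback (u := F.left) hM (s i) e.symm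
    exact (congrArg (fun V : A.left.Opens => x ∈ V) h).mpr hi
  let N := (Scheme.Modules.pullback F.left).obj L
  have hN := PicClLib.isInvertible_pullback F.left hL.1
  obtain ⟨H, hH, hHv⟩ := exists_vol_poly k hA.le (fun _ : Fin 1 => N) (fun _ => hN)
  have h1 := hHv (fun _ => 1) N hN (by simp)
  have h2 := hHv (fun _ => (n + 1 : ℕ)) P hP (by
    rw [Fin.prod_univ_one, zpow_natCast]
    refine Units.ext ?_
    rw [Units.val_pow_eq_pow_val]
    show PicF.pullCl F.left (PicF.cl M) = PicF.pullCl F.left (PicF.cl L) ^ (n + 1)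
    rw [PicMul.cl_tensorPow, PicMul.pullCl_pow])
  have h3 : (fun _ : Fin 1 => (((n + 1 : ℕ) : ℤ) : ℚ)) = fun i => ((n + 1 : ℕ) : ℚ) * (fun _ : Fin 1 => ((1 : ℤ) : ℚ)) i := by
    funext i; push_cast; ring
  rw [h0, h3, eval_smul_of_isHomogeneous hH, ← h1] at h2
  exact (mul_eq_zero.1 h2.symm).resolve_left (pow_ne_zero _ (by positivity))

/-- The degree is a form of degree `2g` on a finitely generated group of homomorphisms. -/
theorem exists_degree_poly {g : ℕ} (hA : topologicalKrullDim A.left = g) (hB : topologicalKrullDim B.left = g)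
    {m : ℕ} (f : Fin m → (A ⟶ B)) [∀ i, IsMonHom (f i)] :
    ∃ P : MvPolynomial (Fin m) ℚ, P.IsHomogeneous (2 * g) ∧
      ∀ a : Fin m → ℤ, (IsFinite (∏ i, f i ^ a i).left →
          ∀ y : B.left, (Scheme.Hom.finrank (∏ i, f i ^ a i).left y : ℚ) = MvPolynomial.eval (fun i => (a i : ℚ)) P) ∧
        (¬ IsFinite (∏ i, f i ^ a i).left → MvPolynomial.eval (fun i => (a i : ℚ)) P = 0) := by
  letI : A.left.Over (Spec (CommRingCat.of k)) := ⟨A.hom⟩
  letI : B.left.Over (Spec (CommRingCat.of k)) := ⟨B.hom⟩
  haveI : IsProper (A.left ↘ Spec (CommRingCat.of k)) := ‹IsProper A.hom›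
  haveI : IsProper (B.left ↘ Spec (CommRingCat.of k)) := ‹IsProper B.hom›
  haveI : IsIntegral A.left := GeometricallyIntegral.isIntegral_of_subsingleton A.hom
  haveI : IsIntegral B.left := GeometricallyIntegral.isIntegral_of_subsingleton B.hom
  obtain ⟨L, hL, hs⟩ := S8121.result k B
  have hsym : pc hL.1 ((𝟙 B)⁻¹ : B ⟶ B) = pc hL.1 (𝟙 B) := by
    ext
    rw [val_pc_id, val_pc]
    exact ((PicGrp.cl_eq_cl_iff _ _).2 hs).symm
  have hL2 : CohB1.IsAmple (CohB1.tensorPow L 2) := AmpleX.isAmple_tensorPow hL (by omega)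
  obtain ⟨β, hβ, hq⟩ := pc_prod_sq hL.1 hsym f
  let E := (finProdFinEquiv (m := m) (n := m)).symm
  choose M hM hMu using fun p : Fin (m * m) => hβ (E p).1 (E p).2
  obtain ⟨H, hH, hHv⟩ := exists_vol_poly k hA.le M hM
  let v := vol k g (CohB1.tensorPow L 2)
  have hv : 0 < v := vol_pos_of_isAmple k hB hL2
  let P : MvPolynomial (Fin m) ℚ := MvPolynomial.C (1 / v) *
    MvPolynomial.aeval (fun p : Fin (m * m) => MvPolynomial.X (E p).1 * MvPolynomial.X (E p).2) H
  refine ⟨P, ?_, fun a => ?_⟩
  · exact (hH.aeval (n := 2) _ fun p => (MvPolynomial.isHomogeneous_X ℚ _).mul (MvPolynomial.isHomogeneous_X ℚ _)).C_mul _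
  · haveI := isMonHom_prod_zpow f a
    set F := ∏ i, f i ^ a i with hFdef
    have key : vol k g ((Scheme.Modules.pullback F.left).obj (CohB1.tensorPow L 2)) =
        v * MvPolynomial.eval (fun i => (a i : ℚ)) P := by
      rw [hHv (fun p => a (E p).1 * a (E p).2) _ (PicClLib.isInvertible_pullback F.left hL2.1) ?_]
      · show _ = v * MvPolynomial.eval _ (MvPolynomial.C (1 / v) * _)
        rw [map_mul, MvPolynomial.eval_C, ← _root_.mul_assoc, mul_one_div_cancel hv.ne', _root_.one_mul,
          Snapper.eval_aeval]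
        congr 2
        funext p
        simp
      · have h1 : (PicMul.isUnit_cl (PicClLib.isInvertible_pullback F.left hL2.1)).unit = pc hL.1 F ^ 2 :=
          Units.ext (by
            rw [Units.val_pow_eq_pow_val]
            show PicF.pullCl F.left (PicF.cl (CohB1.tensorPow L 2)) = PicF.pullCl F.left (PicF.cl L) ^ 2
            rw [PicMul.cl_tensorPow, PicMul.pullCl_pow])
        rw [h1, hFdef, hq a, ← E.prod_comp fun p => β p.1 p.2 ^ (a p.1 * a p.2)]
        exact Finset.prod_congr rfl fun p _ => by rw [hMu p]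
    refine ⟨fun hfin y => ?_, fun hfin => ?_⟩
    · haveI := hfin
      haveI : Surjective F.left := H23.Isogeny.surjective_of_isFinite A.hom B.hom F.left (Over.w F) (hA.trans hB.symm)
      obtain ⟨-, hflat, hlfp⟩ := isFinite_of_surjective hA hB F
      haveI := hflat
      haveI := hlfp
      rw [vol_pullback F hB hL2.1 y, mul_comm] at key
      exact mul_left_cancel₀ hv.ne' key
    · rw [vol_eq_zero_of_not_isFinite hA hB F hfin hL2] at key
      exact (mul_eq_zero.1 key.symm).resolve_left hv.ne'

end Groth.Agent.AVDegPoly
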