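import Groth.Agent.AVDegPoly.Main
import Mathlib.RingTheory.Polynomial.Basic

/-! Dehomogenisation of the degree form of two homomorphisms. -/

noncomputable section

set_option linter.style.haveILetI false
set_option linter.unusedSectionVars false
set_option backward.isDefEq.respectTransparency false
set_option backward.isDefEq.respectTransparency.types false

universe u

open CategoryTheory MonoidalCategory CartesianMonoidalCategory MonObj GrpObj AlgebraicGeometry

namespace Groth.Agent.AVDegPoly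

/-- A binary form at `(1, X)`. -/
theorem dehom {N : ℕ} (P : MvPolynomial (Fin 2) ℚ) (hP : P.IsHomogeneous N) :
    ∃ Q : Polynomial ℚ, Q.natDegree ≤ N ∧ Q.coeff N = MvPolynomial.eval ![0, 1] P ∧
      ∀ t : ℚ, Q.eval t = MvPolynomial.eval ![1, t] P := by
  refine ⟨∑ d ∈ P.support, Polynomial.C (P.coeff d) * Polynomial.X ^ d 1, ?_, ?_, fun t => ?_⟩
  · refine Polynomial.natDegree_sum_le_of_forall_le _ _ fun d hd =>
      (Polynomial.natDegree_C_mul_X_pow_le _ _).trans ?_
    have h := hP (MvPolynomial.mem_support_iff.1 hd)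
    simp [Finsupp.weight_apply, Finsupp.sum_fintype, Fin.sum_univ_two] at h
    omega
  · rw [Polynomial.finsetSum_coeff, MvPolynomial.eval_eq']
    refine Finset.sum_congr rfl fun d hd => ?_
    have h := hP (MvPolynomial.mem_support_iff.1 hd)
    simp [Finsupp.weight_apply, Finsupp.sum_fintype, Fin.sum_univ_two] at h
    simp only [Polynomial.coeff_C_mul, Polynomial.coeff_X_pow, Fin.prod_univ_two]
    by_cases h0 : d 0 = 0
    · simp [h0]; omega
    · have : N ≠ d 1 := by omega
      simp [this, zero_pow h0]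
  · rw [Polynomial.eval_finsetSum, MvPolynomial.eval_eq']
    refine Finset.sum_congr rfl fun d _ => ?_
    simp [Fin.prod_univ_two]

variable {k : Type u} [Field k] (A : Over (Spec (CommRingCat.of k))) [GrpObj A] [IsProper A.hom]
  [GeometricallyIntegral A.hom]

/-- `n ↦ deg (α + n)` is a monic polynomial of degree `2g`. -/
theorem exists_poly_add_intMul {g : ℕ} (hg : topologicalKrullDim A.left = g) (α : A ⟶ A) [IsMonHom α] :
    ∃ P : Polynomial ℚ, P.Monic ∧ P.natDegree = 2 * g ∧
      ∀ n : ℤ, (IsFinite (α * 𝟙 A ^ n).left →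
          ∀ a : A.left, (Scheme.Hom.finrank (α * 𝟙 A ^ n).left a : ℚ) = P.eval (n : ℚ)) ∧
        (¬ IsFinite (α * 𝟙 A ^ n).left → P.eval (n : ℚ) = 0) := by
  haveI : IsCommMonObj A := isCommMonObj_of_isProper_of_geometricallyIntegral _
  haveI : ∀ i, IsMonHom ((![α, 𝟙 A]) i) := fun i => by fin_cases i <;> simp <;> infer_instance
  obtain ⟨P, hP, hPv⟩ := exists_degree_poly hg hg ![α, 𝟙 A]
  obtain ⟨Q, hQd, hQc, hQe⟩ := dehom P hP
  have hone : Q.coeff (2 * g) = 1 := by
    have hF : ∏ i, (![α, 𝟙 A]) i ^ (![0, 1] : Fin 2 → ℤ) i = 𝟙 A := by simp [Fin.prod_univ_two]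
    have h := (hPv ![0, 1]).1
    rw [hF] at h
    have h' := h (inferInstanceAs (IsFinite (𝟙 A.left))) (η[A].left (IsLocalRing.closedPoint k))
    rw [Over.id_left, Scheme.Hom.finrank_eq_one_of_isIso] at h'
    rw [hQc]
    refine Eq.trans ?_ (Eq.trans h'.symm (by simp))
    congr 2
    funext i
    fin_cases i <;> simp
  refine ⟨Q, Polynomial.monic_of_natDegree_le_of_coeff_eq_one _ hQd hone,
    Polynomial.natDegree_eq_of_le_of_coeff_ne_zero hQd (by rw [hone]; exact one_ne_zero), fun n => ?_⟩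
  have hF : ∏ i, (![α, 𝟙 A]) i ^ (![1, n] : Fin 2 → ℤ) i = α * 𝟙 A ^ n := by simp [Fin.prod_univ_two]
  have hev : MvPolynomial.eval (fun i => ((![1, n] : Fin 2 → ℤ) i : ℚ)) P = Q.eval (n : ℚ) := by
    rw [hQe]; congr 2; funext i; fin_cases i <;> simp
  have h := hPv ![1, n]
  rw [hF, hev] at h
  exact h

end Groth.Agent.AVDegPoly
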